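import Cfsg.Agent.SpecEight.Pieces

/-!
# Unipotent isometries: reflections and Siegel extensions, even characteristic
-/

set_option autoImplicit false

open QuadraticMap Matrix CfsgLib.Forms CfsgLib.SemiClasses

namespace CfsgLib.SpecEight

variable {F : Type*} [Field F] [Finite F] [CharP F 2]

section

variable {ι : Type} [Fintype ι] [DecidableEq ι] {Q : QuadraticForm F (ι → F)}

omit [Finite F] in
theorem sub_one_pow_two_pow (M : Matrix ι ι F) (c : ℕ) : (M - 1) ^ 2 ^ c = M ^ 2 ^ c - 1 := by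
  rcases isEmpty_or_nonempty ι with h | h
  · exact Subsingleton.elim _ _
  rw [sub_pow_char_pow_of_commute 2 c (Commute.one_right M), one_pow]

omit [Finite F] in
theorem polar_self_two (v : ι → F) : polar Q v v = 0 := by
  rw [polar_self]; simp [CharTwo.two_eq_zero]

omit [CharP F 2] in
theorem mat_listGL_single (a : {u : ι → F // Q u ≠ 0}) (v : ι → F) :
    mat (listGL Q [a]) *ᵥ v = v - ((Q a.1)⁻¹ * polar Q v a.1) • a.1 := by
  rw [← refl_apply a.2, ← glEquiv_apply, ← coe_isoEquiv Q, isoEquiv_listGL]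
  rfl

/-- A reflection with a vector it moves. -/
theorem exists_reflection (hQ : (polarBilin Q).Nondegenerate) (hι : 1 ≤ Fintype.card ι) :
    ∃ (a : {u : ι → F // Q u ≠ 0}) (w : ι → F), polar Q w a.1 ≠ 0 ∧
      (mat (listGL Q [a]) - 1) ^ 2 = 0 ∧
      (mat (listGL Q [a]) - 1) *ᵥ w = ((Q a.1)⁻¹ * polar Q w a.1) • a.1 := by
  obtain ⟨a, ha⟩ := exists_value_ne hQ hι
  have hne : ∀ v, (mat (listGL Q [⟨a, ha⟩]) - 1) *ᵥ v = ((Q a)⁻¹ * polar Q v a) • a := fun v => by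
    rw [sub_mulVec, one_mulVec, mat_listGL_single, sub_sub_cancel_left, ← neg_smul, CharTwo.neg_eq]
  obtain ⟨w, hw⟩ : ∃ w, polar Q w a ≠ 0 := by
    by_contra h
    push Not at h
    exact ha (by rw [polar_ext hQ (x := a) fun y => by rw [polar_comm]; exact h y, QuadraticMap.map_zero])
  refine ⟨⟨a, ha⟩, w, hw, Matrix.ext_of_mulVec_single fun i => ?_, hne w⟩
  rw [_root_.sq, ← Matrix.mulVec_mulVec, hne, hne]
  rw [polar_smul_left, polar_self_two, smul_zero, mul_zero, zero_smul, Matrix.zero_mulVec]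

/-- The hyperbolic plane before an orthogonal space. -/
abbrev ext2 (Q : QuadraticForm F (ι → F)) : QuadraticForm F ((Fin 1 ⊕ Fin 1) ⊕ ι → F) :=
  sumForm (quadPlus F 1) Q

/-- The Siegel extension of an isometry `u` by a vector `w`, as a matrix with its powers. -/
theorem exists_siegel (u : Cfsg.isometryGroup F ⇑Q) (w : ι → F) {k c : ℕ} (hk : (mat u - 1) ^ k = 0)
    (hc : k + 2 ≤ 2 ^ c) :
    ∃ e : Cfsg.isometryGroup F ⇑(ext2 Q), (mat e - 1) ^ (k + 2) = 0 ∧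
      ∀ j, ((mat e - 1) ^ (j + 2) *ᵥ Sum.elim (Sum.elim (0 : Fin 1 → F) 1) 0) =
        Sum.elim (Sum.elim (fun _ : Fin 1 => polar Q (mat u *ᵥ ((mat u - 1) ^ j *ᵥ w)) w) 0)
          ((mat u - 1) ^ (j + 1) *ᵥ w) := by
  let f : ((Fin 1 ⊕ Fin 1) ⊕ ι → F) →ₗ[F] ((Fin 1 ⊕ Fin 1) ⊕ ι → F) :=
    { toFun := fun v => Sum.elim (Sum.elim (fun _ => v (.inl (.inl 0)) + polar Q (mat u *ᵥ (v ∘ Sum.inr)) w
        + v (.inl (.inr 0)) * Q w) (fun _ => v (.inl (.inr 0))))
        (mat u *ᵥ (v ∘ Sum.inr) + v (.inl (.inr 0)) • w)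
      map_add' := fun a b => by
        funext i
        rcases i with (i | i) | i
        · simp [show (a + b) ∘ Sum.inr = a ∘ Sum.inr + b ∘ Sum.inr from rfl, Matrix.mulVec_add, polar_add_left]
          ring
        · simp
        · simp [show (a + b) ∘ Sum.inr = a ∘ Sum.inr + b ∘ Sum.inr from rfl, Matrix.mulVec_add]
          ring
      map_smul' := fun t a => by
        funext i
        rcases i with (i | i) | i
        · simp [show (t • a) ∘ Sum.inr = t • (a ∘ Sum.inr) from rfl, Matrix.mulVec_smul, polar_smul_left]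
          ring
        · simp
        · simp [show (t • a) ∘ Sum.inr = t • (a ∘ Sum.inr) from rfl, Matrix.mulVec_smul]
          ring }
  set E := LinearMap.toMatrix' f with hE
  have happ : ∀ v, (E - 1) *ᵥ v = Sum.elim (Sum.elim
      (fun _ => polar Q (mat u *ᵥ (v ∘ Sum.inr)) w + v (.inl (.inr 0)) * Q w) 0)
      ((mat u - 1) *ᵥ (v ∘ Sum.inr) + v (.inl (.inr 0)) • w) := by
    intro v
    rw [sub_mulVec, one_mulVec, hE, LinearMap.toMatrix'_mulVec]
    funext i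
    rcases i with (i | i) | i
    · obtain rfl : i = 0 := Subsingleton.elim _ _
      simp [f]; ring
    · obtain rfl : i = 0 := Subsingleton.elim _ _
      simp [f]
    · simp [f, sub_mulVec]; ring
  have hiter : ∀ (j : ℕ) (v : (Fin 1 ⊕ Fin 1) ⊕ ι → F), (E - 1) ^ (j + 2) *ᵥ v = Sum.elim (Sum.elim
      (fun _ => polar Q (mat u *ᵥ ((mat u - 1) ^ j *ᵥ ((mat u - 1) *ᵥ (v ∘ Sum.inr) + v (.inl (.inr 0)) • w))) w) 0)
      ((mat u - 1) ^ (j + 1) *ᵥ ((mat u - 1) *ᵥ (v ∘ Sum.inr) + v (.inl (.inr 0)) • w)) := by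
    intro j v
    induction j with
    | zero =>
      rw [pow_two, ← Matrix.mulVec_mulVec, happ, happ]
      simp
    | succ j ih =>
      rw [show j + 1 + 2 = j + 2 + 1 from rfl, pow_succ' (E - 1), ← Matrix.mulVec_mulVec, ih, happ]
      simp [← pow_succ']
  have hnil : (E - 1) ^ (k + 2) = 0 := Matrix.ext_of_mulVec_single fun i => by
    rw [hiter, hk, pow_succ, hk, zero_mul, Matrix.zero_mulVec, Matrix.zero_mulVec, Matrix.mulVec_zero, polar_zero_left,
      ]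
    funext l
    rcases l with (l | l) | l <;> rfl
  have hEc : E ^ 2 ^ c = 1 := by
    have := pow_eq_zero_of_le hc hnil
    rwa [sub_one_pow_two_pow, sub_eq_zero] at this
  obtain ⟨e, he⟩ := exists_iso_of_matrix (Q := ext2 Q) E (pow_ne_zero _ two_ne_zero) hEc (fun v => by
    rw [hE, LinearMap.toMatrix'_mulVec, sumForm_apply, sumForm_apply, coe_quadPlus]
    simp only [Cfsg.quadFormPlus, f, LinearMap.coe_mk, AddHom.coe_mk, Function.comp_apply, Fin.sum_univ_one,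
      Sum.elim_inl, Sum.elim_inr, Sum.elim_comp_inr]
    rw [map_add_smul, Q_mat]
    linear_combination (v (.inl (.inr 0)) * polar Q (mat u *ᵥ (v ∘ Sum.inr)) w +
      v (.inl (.inr 0)) * v (.inl (.inr 0)) * Q w) * (CharTwo.two_eq_zero : (2 : F) = 0))
  refine ⟨e, he ▸ hnil, fun j => ?_⟩
  rw [he, hiter]
  simp

end

/-- An orthogonal space with an isometry `u`, `(u - 1) ^ (2 ^ c) = 0`, and a vector with
`(u - 1) ^ (2 ^ c - 1) v ≠ 0`. -/
def Uni (F : Type*) [Field F] (d : ℕ) (s : Prop) (c : ℕ) : Prop :=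
  ∃ (ι : Type) (_ : Fintype ι) (_ : DecidableEq ι) (Q : QuadraticForm F (ι → F))
    (g : Cfsg.isometryGroup F ⇑Q) (v : ι → F), (polarBilin Q).Nondegenerate ∧ Fintype.card ι = 2 * d ∧
      (HasHalf Q ↔ s) ∧ (mat g - 1) ^ 2 ^ c = 0 ∧ (mat g - 1) ^ (2 ^ c - 1) *ᵥ v ≠ 0

omit [Finite F] in
theorem orderOf_eq_two_pow {ι : Type} [Fintype ι] [DecidableEq ι] {Q : QuadraticForm F (ι → F)}
    (g : Cfsg.isometryGroup F ⇑Q) {c : ℕ} (h1 : (mat g - 1) ^ 2 ^ c = 0)
    (h2 : ∀ j, j < c → (mat g - 1) ^ 2 ^ j ≠ 0) : orderOf g = 2 ^ c := by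
  have key : ∀ j, g ^ 2 ^ j = 1 ↔ (mat g - 1) ^ 2 ^ j = 0 := fun j => by
    rw [sub_one_pow_two_pow, sub_eq_zero, ← mat_pow]
    exact ⟨fun h => by rw [h, mat_one], fun h => mat_ext (h.trans mat_one.symm)⟩
  rcases c with _ | c
  · rw [pow_zero, orderOf_eq_one_iff]
    simpa using (key 0).2 h1
  · exact orderOf_eq_prime_pow (fun h => h2 c (Nat.lt_succ_self c) ((key c).1 h)) ((key _).2 h1)

theorem Uni.piece {d c : ℕ} {s : Prop} (h : Uni F d s c) : Piece F d s (2 ^ c) := by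
  obtain ⟨ι, i1, i2, Q, g, v, h1, h2, h3, h4, h5⟩ := h
  refine ⟨ι, i1, i2, Q, g, h1, h2, h3, orderOf_eq_two_pow g h4 fun j hj h0 => h5 ?_⟩
  rw [pow_eq_zero_of_le (Nat.le_sub_one_of_lt (Nat.pow_lt_pow_right (by norm_num) hj)) h0, Matrix.zero_mulVec]

theorem uni_zero (s : Prop) : Uni F 1 s 0 := by
  obtain ⟨ι, i1, i2, Q, hn, hι, hs⟩ := exists_plane F s
  obtain ⟨i⟩ : Nonempty ι := Fintype.card_pos_iff.1 (by omega)
  refine ⟨ι, i1, i2, Q, 1, Pi.single i 1, hn, hι, hs, by simp [mat_one], ?_⟩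
  simp [Function.ne_iff]
  exact ⟨i, by simp⟩

theorem uni_one (s : Prop) : Uni F 1 s 1 := by
  obtain ⟨ι, i1, i2, Q, hn, hι, hs⟩ := exists_plane F s
  obtain ⟨a, w, hw, hsq, hne⟩ := exists_reflection hn (by omega)
  refine ⟨ι, i1, i2, Q, listGL Q [a], w, hn, hι, hs, by simpa using hsq, ?_⟩
  rw [show 2 ^ 1 - 1 = 1 from rfl, pow_one, hne]
  exact smul_ne_zero (mul_ne_zero (inv_ne_zero a.2) hw) (fun h => a.2 (by rw [h, QuadraticMap.map_zero]))

theorem uni_two (s : Prop) : Uni F 2 s 2 := by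
  obtain ⟨ι, i1, i2, Q, hn, hι, hs⟩ := exists_plane F s
  obtain ⟨a, w, hw, hsq, hne⟩ := exists_reflection hn (by omega)
  obtain ⟨e, he, hj⟩ := exists_siegel (listGL Q [a]) w (c := 2) hsq le_rfl
  refine ⟨(Fin 1 ⊕ Fin 1) ⊕ ι, inferInstance, inferInstance, ext2 Q, e, Sum.elim (Sum.elim 0 1) 0,
    nondegenerate_sumForm (nondegenerate_quadPlus 1) hn, by simp; omega, ?_, he, fun h0 => ?_⟩
  · rw [hasHalf_sum_iff (nondegenerate_quadPlus 1) hn (by simp) ⟨1, by omega⟩, hs, iff_true_intro (hasHalf_quadPlus 1)]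
    simp
  · rw [show 2 ^ 2 - 1 = 1 + 2 from rfl, hj] at h0
    have h1 : polar Q (mat (listGL Q [a]) *ᵥ ((mat (listGL Q [a]) - 1) ^ 1 *ᵥ w)) w = 0 :=
      congrFun h0 (.inl (.inl 0))
    have hfix : mat (listGL Q [a]) *ᵥ a.1 = a.1 := by
      rw [mat_listGL_single, polar_self_two, mul_zero, zero_smul, sub_zero]
    rw [pow_one, hne, Matrix.mulVec_smul, hfix, polar_smul_left, smul_eq_mul, polar_comm (⇑Q) a.1] at h1
    exact mul_ne_zero (mul_ne_zero (inv_ne_zero a.2) hw) hw h1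

/-- An element of order eight in dimension six. -/
theorem piece_eight (s : Prop) : Piece F 3 s 8 := by
  obtain ⟨ι, i1, i2, Q, g, v, hn, hι, hs, h4, h5⟩ := uni_two (F := F) s
  obtain ⟨e, he, hj⟩ := exists_siegel g v (c := 3) h4 (by norm_num)
  refine ⟨(Fin 1 ⊕ Fin 1) ⊕ ι, inferInstance, inferInstance, ext2 Q, e,
    nondegenerate_sumForm (nondegenerate_quadPlus 1) hn, by simp; omega, ?_, ?_⟩
  · rw [hasHalf_sum_iff (nondegenerate_quadPlus 1) hn (by simp) ⟨2, by omega⟩, hs, iff_true_intro (hasHalf_quadPlus 1)]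
    simp
  · refine orderOf_eq_two_pow e (c := 3) (pow_eq_zero_of_le (by norm_num) he) fun j hj3 h0 => h5 ?_
    have h1 : (mat e - 1) ^ (2 + 2) = 0 := by
      refine pow_eq_zero_of_le ?_ h0
      calc 2 ^ j ≤ 2 ^ 2 := Nat.pow_le_pow_right (by norm_num) (by omega)
        _ = 2 + 2 := rfl
    have h2 := congrArg (fun M => (M *ᵥ Sum.elim (Sum.elim (0 : Fin 1 → F) 1) 0) ∘ Sum.inr) h1
    simp only [hj, Matrix.zero_mulVec, Sum.elim_comp_inr] at h2
    exact h2

end CfsgLib.SpecEight
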