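import Cfsg.Agent.SpecEight.Orders
import Cfsg.Agent.SpecEight.Unipotent
import Cfsg.Agent.Forms.SympEmbed
import Cfsg.Agent.PSpFourSpec.Spectrum

/-!
# The spectrum of `Sp₈(2^m)` and of `GO₈⁻(2^m)`
-/

set_option autoImplicit false

open QuadraticMap Matrix CfsgLib.Forms CfsgLib.SemiClasses

namespace CfsgLib.SpecEight

variable {F : Type*} [Field F] [Finite F] [CharP F 2]

theorem odd_pred_pow {d : ℕ} (hd : 1 ≤ d) : Odd (Nat.card F ^ d - 1) ∧ Odd (Nat.card F ^ d + 1) := by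
  have he : Even (Nat.card F ^ d) := (even_iff_two_dvd.2 (card_even (F := F))).pow_of_ne_zero (by omega)
  refine ⟨Nat.Even.sub_odd ?_ he odd_one, he.add_one⟩
  exact Nat.one_le_pow _ _ Nat.card_pos

omit [Finite F] [CharP F 2] in
theorem coprime_of_forall {a b : ℕ} (ha : Odd a) (h : ∀ g, g ∣ a → g ∣ b → g ∣ 2) : Nat.Coprime a b := by
  rcases (Nat.dvd_prime Nat.prime_two).1 (h _ (Nat.gcd_dvd_left a b) (Nat.gcd_dvd_right a b)) with h1 | h1
  · exact h1
  · exact absurd (h1 ▸ Nat.gcd_dvd_left a b) (fun h2 => Nat.not_even_iff_odd.2 ha (even_iff_two_dvd.2 h2))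

/-- The semisimple parts of elements of the maximal orders. -/
theorem semisimple_parts (T : ℕ) (hT : T ∈ tops (Nat.card F)) :
    (Odd T ∧ Piece F 4 False T) ∨
      ∃ (j n : ℕ) (s : Prop), j ≤ 2 ∧ T = n * 2 ^ (j + 1) ∧ Odd n ∧ Piece F (3 - j) s n := by
  have hq2 : 2 ≤ Nat.card F := Finite.one_lt_card
  set q := Nat.card F with hq
  have ho : ∀ d, 1 ≤ d → Odd (q ^ d - 1) ∧ Odd (q ^ d + 1) := fun d hd => odd_pred_pow hd
  have P := fun d hd => piece_plus (F := F) d hd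
  have M := fun d hd => piece_minus (F := F) d hd
  have c22 : Nat.Coprime (q ^ 2 + 1) (q ^ 2 - 1) := coprime_of_forall (ho 2 (by norm_num)).2 fun g h1 h2 => by
    have h3 := Nat.dvd_sub h1 h2
    rwa [show q ^ 2 + 1 - (q ^ 2 - 1) = 2 by have := Nat.one_le_pow 2 q (by omega); omega] at h3
  have cm : ∀ a, Odd (q ^ a + 1) → q - 1 ∣ q ^ a - 1 → Nat.Coprime (q ^ a + 1) (q - 1) := fun a hodd hd =>
    coprime_of_forall hodd fun g h1 h2 => by
      have h3 := Nat.dvd_sub h1 (h2.trans hd)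
      rwa [show q ^ a + 1 - (q ^ a - 1) = 2 by have := Nat.one_le_pow a q (by omega); omega] at h3
  have c31' : Nat.Coprime (q ^ 3 + 1) (q - 1) := cm 3 (ho 3 (by norm_num)).2 (Nat.sub_one_dvd_pow_sub_one q 3)
  have c21' : Nat.Coprime (q ^ 2 + 1) (q - 1) := cm 2 (ho 2 (by norm_num)).2 (Nat.sub_one_dvd_pow_sub_one q 2)
  have e1 : (q + 1) * (q - 1) = q ^ 2 - 1 := by rw [← Nat.sq_sub_sq, one_pow]
  have c21 : Nat.Coprime (q ^ 2 + 1) (q + 1) := c22.of_dvd_right (e1 ▸ dvd_mul_right _ _)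
  have c31 : Nat.Coprime (q ^ 3 - 1) (q + 1) := coprime_of_forall (ho 3 (by norm_num)).1 fun g h1 h2 => by
    have h3 : g ∣ q ^ 3 + 1 := h2.trans (by
      have := Odd.nat_add_dvd_pow_add_pow q 1 (show Odd 3 by decide)
      simpa using this)
    have h4 := Nat.dvd_sub h3 h1
    rwa [show q ^ 3 + 1 - (q ^ 3 - 1) = 2 by have := Nat.one_le_pow 3 q (by omega); omega] at h4
  have hF : (False ↔ True) ↔ False := by simp
  simp only [tops, List.mem_cons, List.not_mem_nil, or_false] at hT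
  rcases hT with rfl | rfl | rfl | rfl | rfl | rfl | rfl | rfl | rfl | rfl | rfl | rfl
  · exact Or.inl ⟨(ho 4 (by norm_num)).2, M 4 (by norm_num)⟩
  · refine Or.inl ⟨(ho 4 (by norm_num)).1, ((M 2 (by norm_num)).add (P 2 (by norm_num))).congr rfl hF ?_⟩
    rw [c22.lcm_eq_mul, ← Nat.sq_sub_sq, one_pow, ← pow_mul]
  · refine Or.inl ⟨(ho 3 (by norm_num)).2.mul ?_, ((M 3 (by norm_num)).add (P 1 le_rfl)).congr rfl hF ?_⟩
    · simpa using (ho 1 le_rfl).1
    · rw [pow_one, c31'.lcm_eq_mul]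
  · refine Or.inl ⟨(ho 3 (by norm_num)).1.mul ?_, ((P 3 (by norm_num)).add (M 1 le_rfl)).congr rfl (by simp) ?_⟩
    · simpa using (ho 1 le_rfl).2
    · rw [pow_one, c31.lcm_eq_mul]
  · exact Or.inr ⟨0, _, _, by omega, mul_comm _ _, (ho 3 (by norm_num)).2, M 3 (by norm_num)⟩
  · exact Or.inr ⟨0, _, _, by omega, mul_comm _ _, (ho 3 (by norm_num)).1, P 3 (by norm_num)⟩
  · refine Or.inr ⟨0, _, _, by omega, mul_comm _ _, (ho 2 (by norm_num)).2.mul ?_,
      ((M 2 (by norm_num)).add (M 1 le_rfl)).congr rfl Iff.rfl ?_⟩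
    · simpa using (ho 1 le_rfl).2
    · rw [pow_one, c21.lcm_eq_mul]
  · refine Or.inr ⟨0, _, _, by omega, mul_comm _ _, (ho 2 (by norm_num)).2.mul ?_,
      ((M 2 (by norm_num)).add (P 1 le_rfl)).congr rfl Iff.rfl ?_⟩
    · simpa using (ho 1 le_rfl).1
    · rw [pow_one, c21'.lcm_eq_mul]
  · exact Or.inr ⟨1, q ^ 2 + 1, _, by omega, mul_comm _ _, (ho 2 (by norm_num)).2, M 2 (by norm_num)⟩
  · exact Or.inr ⟨1, q ^ 2 - 1, _, by omega, mul_comm _ _, (ho 2 (by norm_num)).1, P 2 (by norm_num)⟩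
  · exact Or.inr ⟨2, q ^ 1 + 1, _, le_rfl, by rw [pow_one]; exact mul_comm _ _, (ho 1 le_rfl).2, M 1 le_rfl⟩
  · exact Or.inr ⟨2, q ^ 1 - 1, _, le_rfl, by rw [pow_one]; exact mul_comm _ _, (ho 1 le_rfl).1, P 1 le_rfl⟩

/-- Every maximal order is the order of an isometry of an eight dimensional minus type space. -/
theorem exists_piece (T : ℕ) (hT : T ∈ tops (Nat.card F)) : Piece F 4 False T := by
  rcases semisimple_parts T hT with h | ⟨j, n, s, hj, hTn, hn, hp⟩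
  · exact h.2
  · have hu : Piece F (j + 1) (¬ s) (2 ^ (j + 1)) := by
      rcases (by omega : j = 0 ∨ j = 1 ∨ j = 2) with rfl | rfl | rfl
      exacts [(uni_one _).piece, (uni_two _).piece, piece_eight _]
    refine (hp.add hu).congr (by omega) (by by_cases hs : s <;> simp [hs]) ?_
    rw [(Nat.Coprime.pow_right _ (Nat.coprime_two_right.2 hn)).lcm_eq_mul, hTn]

section Transfer

variable {ι κ : Type} [Fintype ι] [DecidableEq ι] [Fintype κ] [DecidableEq κ]
  {Q : QuadraticForm F (ι → F)} {Q' : QuadraticForm F (κ → F)}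

omit [Finite F] [CharP F 2] in
theorem exists_congr (φ : (ι → F) ≃ₗ[F] (κ → F)) (hφ : ∀ v, Q' (φ v) = Q v) :
    ∃ ψ : Cfsg.isometryGroup F ⇑Q →* Cfsg.isometryGroup F ⇑Q', Function.Injective ψ ∧
      ∀ g v, mat (ψ g) *ᵥ φ v = φ (mat g *ᵥ v) := by
  let M : Matrix ι ι F → Matrix κ κ F := fun A =>
    LinearMap.toMatrix' ((φ : (ι → F) →ₗ[F] (κ → F)) ∘ₗ Matrix.mulVecLin A ∘ₗ (φ.symm : (κ → F) →ₗ[F] (ι → F)))
  have happ : ∀ A v, M A *ᵥ φ v = φ (A *ᵥ v) := fun A v => by simp [M, LinearMap.toMatrix'_mulVec]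
  have hext : ∀ A B : Matrix κ κ F, (∀ v, A *ᵥ φ v = B *ᵥ φ v) → A = B := fun A B h =>
    Matrix.ext_of_mulVec_single fun i => by rw [← φ.apply_symm_apply (Pi.single i 1)]; exact h _
  have hmul : ∀ A B, M (A * B) = M A * M B := fun A B => hext _ _ fun v => by
    rw [← Matrix.mulVec_mulVec, happ, happ, happ, Matrix.mulVec_mulVec]
  have hone : M 1 = 1 := hext _ _ fun v => by rw [happ, Matrix.one_mulVec, Matrix.one_mulVec]
  refine ⟨{ toFun := fun g => ⟨⟨M (mat g), M (mat g⁻¹), by rw [← hmul, ← mat_mul, mul_inv_cancel, mat_one, hone],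
        by rw [← hmul, ← mat_mul, inv_mul_cancel, mat_one, hone]⟩, mem_isometryGroup.2 fun v => by
          rw [← φ.apply_symm_apply v]
          show Q' (M (mat g) *ᵥ _) = _
          rw [happ, hφ, hφ, Q_mat]⟩
            map_one' := mat_ext hone
            map_mul' := fun g h => mat_ext (hmul _ _) }, fun g h e => mat_ext ?_, fun g v => happ _ v⟩
  refine Matrix.ext_of_mulVec_single fun i => φ.injective ?_
  rw [← happ, ← happ]
  exact congrArg (fun A : Matrix κ κ F => A *ᵥ φ (Pi.single i 1)) (congrArg mat e)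

end Transfer


omit [CharP F 2] in
theorem exists_quadMinus {a b : F} (hab : ∀ z₁ z₂ : F, z₁ ^ 2 + a * z₁ * z₂ + b * z₂ ^ 2 = 0 → z₁ = 0 ∧ z₂ = 0)
    {ι : Type} [Fintype ι] [DecidableEq ι] {Q : QuadraticForm F (ι → F)} (hQ : (polarBilin Q).Nondegenerate)
    (hι : Fintype.card ι = 2 * 4) (h : ¬ HasHalf Q) :
    ∃ (φ : (ι → F) ≃ₗ[F] ((Fin 3 ⊕ Fin 3) ⊕ Fin 2 → F))
      (ψ : Cfsg.isometryGroup F ⇑Q →* Cfsg.isometryGroup F ⇑(quadMinus F 3 a b)), Function.Injective ψ ∧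
      ∀ g v, mat (ψ g) *ᵥ φ v = φ (mat g *ᵥ v) := by
  obtain ⟨-, φ, hφ⟩ := exists_iso_minus hQ (m := 4) hι h hab
  exact ⟨φ, exists_congr φ hφ⟩

omit [Finite F] in
/-- A matrix with the shape of the bound has order dividing one of the maximal orders. -/
theorem pow_eq_one_of_data {ι : Type} [Fintype ι] [DecidableEq ι] (A : Matrix ι ι F) {L c : ℕ}
    (h : A.charpoly ∣ (Polynomial.X ^ L - 1) ^ 2 ^ c) : A ^ (L * 2 ^ c) = 1 := by
  obtain ⟨r, hr⟩ := h
  have h1 := congrArg (Polynomial.aeval A) hr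
  rw [map_pow, map_sub, map_pow, Polynomial.aeval_X, map_one, map_mul, Matrix.aeval_self_charpoly, zero_mul,
    sub_one_pow_two_pow, sub_eq_zero, ← pow_mul] at h1
  exact h1

/-- The isometries have the shape of the bound. -/
theorem data_of_isometry {ι : Type} [Fintype ι] [DecidableEq ι] {Q : QuadraticForm F (ι → F)}
    (hQ : (polarBilin Q).Nondegenerate) (hι : Fintype.card ι = 2 * 4) (g : Cfsg.isometryGroup F ⇑Q) :
    Data (Nat.card F) (mat g).charpoly := by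
  have halt : LinearMap.BilinForm.IsAlt (polarBilin Q) := fun v => polar_self_two (Q := Q) v
  obtain ⟨φ, hφ⟩ := exists_symp_coord (n := 4) (by rw [Module.finrank_fintype_fun_eq_card, hι]) (polarBilin Q)
    halt hQ.1
  set f : Module.End F (Fin 4 ⊕ Fin 4 → F) := φ.conj (Matrix.toLin' (mat g)) with hf
  have hmem : LinearMap.toMatrix' f ∈ Matrix.symplecticGroup (Fin 4) F := CfsgLib.SpGeom.mem_of_form fun u v => by
    rw [LinearMap.toMatrix'_mulVec, LinearMap.toMatrix'_mulVec]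
    conv_rhs => rw [← φ.apply_symm_apply u, ← φ.apply_symm_apply v, hφ]
    simp only [hf, LinearEquiv.conj_apply, LinearMap.comp_apply, LinearEquiv.coe_coe, Matrix.toLin'_apply]
    rw [hφ, polarBilin_apply_apply, polarBilin_apply_apply, polar, polar, ← Matrix.mulVec_add, Q_mat, Q_mat, Q_mat]
  have h := data_of_symp ⟨_, hmem⟩
  have e : (LinearMap.toMatrix' f).charpoly = (mat g).charpoly := by
    rw [← Matrix.charpoly_toLin', Matrix.toLin'_toMatrix', hf, LinearEquiv.charpoly_conj, Matrix.charpoly_toLin']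
  rwa [e] at h

theorem orders_of_isometry {ι : Type} [Fintype ι] [DecidableEq ι] {Q : QuadraticForm F (ι → F)}
    (hQ : (polarBilin Q).Nondegenerate) (hι : Fintype.card ι = 2 * 4) (g : Cfsg.isometryGroup F ⇑Q) :
    Ord (Nat.card F) (orderOf g) := by
  obtain ⟨L, c, -, hord, hdvd⟩ := data_of_isometry hQ hι g
  exact hord.of_dvd (orderOf_dvd_of_pow_eq_one (mat_ext (by rw [mat_pow, pow_eq_one_of_data _ hdvd, mat_one])))

omit [Finite F] [CharP F 2] in
theorem range_eq_of {G : Type*} [Group G] [Finite G] {q : ℕ} (h1 : ∀ g : G, Ord q (orderOf g))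
    (h2 : ∀ T ∈ tops q, ∃ g : G, T ∣ orderOf g) : Set.range (orderOf : G → ℕ) = {d | Ord q d} := by
  ext d
  refine ⟨fun ⟨g, hg⟩ => hg ▸ h1 g, fun ⟨T, hT, hd⟩ => ?_⟩
  obtain ⟨g, hg⟩ := h2 T hT
  exact ⟨g ^ (orderOf g / d), orderOf_pow_orderOf_div (orderOf_pos g).ne' (hd.trans hg)⟩

/-- The spectrum of `GO₈⁻`. -/
theorem range_isometry {a b : F}
    (hab : ∀ z₁ z₂ : F, z₁ ^ 2 + a * z₁ * z₂ + b * z₂ ^ 2 = 0 → z₁ = 0 ∧ z₂ = 0) :
    Set.range (orderOf : Cfsg.isometryGroup F ⇑(quadMinus F 3 a b) → ℕ) = {d | Ord (Nat.card F) d} := by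
  refine range_eq_of (orders_of_isometry (nondegenerate_quadMinus 3 hab) (by simp)) fun T hT => ?_
  obtain ⟨ι, _, _, Q, g, hn, hι, hs, hg⟩ := exists_piece T hT
  obtain ⟨φ, ψ, hψ, -⟩ := exists_quadMinus hab hn hι hs.1
  exact ⟨ψ g, by rw [orderOf_injective _ hψ, hg]⟩

/-- The spectrum of `PSp₈`. -/
theorem range_psp : Set.range (orderOf : Cfsg.PSp 4 F → ℕ) = {d | Ord (Nat.card F) d} := by
  classical
  refine range_eq_of (fun a => ?_) fun T hT => ?_
  · obtain ⟨x, rfl⟩ := QuotientGroup.mk_surjective a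
    obtain ⟨L, c, -, hord, hdvd⟩ := data_of_symp x
    refine hord.of_dvd ((orderOf_map_dvd (QuotientGroup.mk' _) x).trans (orderOf_dvd_of_pow_eq_one (Subtype.ext ?_)))
    rw [SubmonoidClass.coe_pow, pow_eq_one_of_data _ hdvd]
    rfl
  · obtain ⟨ι, _, _, Q, g, hn, hι, hs, hg⟩ := exists_piece T hT
    let ρ : Cfsg.isometryGroup F ⇑Q →* Module.End F (ι → F) :=
      { toFun := fun g => Matrix.toLin' (mat g)
        map_one' := by rw [mat_one, Matrix.toLin'_one]; rfl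
        map_mul' := fun g h => by rw [mat_mul, Matrix.toLin'_mul]; rfl }
    obtain ⟨φ, hφ⟩ := exists_symp_hom (n := 4) (by rw [Module.finrank_fintype_fun_eq_card, hι]) (polarBilin Q)
      (fun v => polar_self_two (Q := Q) v) hn.1 ρ
      (fun g u v => by
        show polar Q (Matrix.toLin' (mat g) u) (Matrix.toLin' (mat g) v) = polar Q u v
        rw [Matrix.toLin'_apply, Matrix.toLin'_apply, polar, polar, ← Matrix.mulVec_add, Q_mat, Q_mat, Q_mat])
      (fun g h e => mat_ext (Matrix.toLin'.injective e))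
    refine ⟨((φ g : Matrix.symplecticGroup (Fin 4) F) : Cfsg.PSp 4 F), ?_⟩
    have h := CfsgLib.PSpFourSpec.orderOf_mk_dvd 2 (n := 4) (by norm_num) (φ g)
    rw [orderOf_injective _ hφ, hg, CfsgLib.PSpFourSpec.hh, if_pos rfl, one_mul] at h
    exact h

end CfsgLib.SpecEight
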