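import Cfsg.Agent.Symp.Spectrum

/-!
# Element orders in eight dimensional symplectic groups, even characteristic: the bound

The characteristic polynomial of a symplectic matrix divides `(X ^ L - 1) ^ (2 ^ c)` where `L` is odd and
`L * 2 ^ c` divides one of thirteen numbers.
-/

set_option autoImplicit false

namespace CfsgLib.SpecEight

open Polynomial UniqueFactorizationMonoid CfsgLib.Symp

/-- The maximal orders. -/
def tops (q : ℕ) : List ℕ :=
  [q ^ 4 + 1, q ^ 4 - 1, (q ^ 3 + 1) * (q - 1), (q ^ 3 - 1) * (q + 1), 2 * (q ^ 3 + 1), 2 * (q ^ 3 - 1),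
    2 * ((q ^ 2 + 1) * (q + 1)), 2 * ((q ^ 2 + 1) * (q - 1)), 4 * (q ^ 2 + 1), 4 * (q ^ 2 - 1), 8 * (q + 1),
    8 * (q - 1)]

/-- The spectrum. -/
def Ord (q d : ℕ) : Prop := ∃ T ∈ tops q, d ∣ T

theorem Ord.of_dvd {q a b : ℕ} (h : Ord q b) (hab : a ∣ b) : Ord q a :=
  h.imp fun _ ⟨hT, hd⟩ => ⟨hT, hab.trans hd⟩

/-- The shape of a characteristic polynomial. -/
def Data {F : Type*} [Field F] (q : ℕ) (χ : F[X]) : Prop :=
  ∃ L c : ℕ, Odd L ∧ Ord q (L * 2 ^ c) ∧ χ ∣ (X ^ L - 1) ^ 2 ^ c

/-- Orbits of the reciprocal map have weights `w` and exponents `q ^ w ± 1`; the lcm of the exponents. -/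
theorem lcm_bound {q k : ℕ} (_hq : 2 ≤ q) {α : Type*} (S : Finset α) (w E : α → ℕ) (same : α → α → Prop)
    (hw : ∀ f ∈ S, 1 ≤ w f ∧ w f ≤ k ∧ (E f = q ^ w f + 1 ∨ E f = q ^ w f - 1))
    (hsame : ∀ f ∈ S, ∀ g ∈ S, same f g → E g = E f)
    (h2 : ∀ f ∈ S, ∀ g ∈ S, ¬ same f g → w f + w g ≤ k)
    (h3 : ∀ f ∈ S, ∀ g ∈ S, ∀ h ∈ S, ¬ same f g → ¬ same f h → ¬ same g h → w f + w g + w h ≤ k) (hk : k ≤ 4) :
    Ord q (S.lcm E * 2 ^ (if k = 4 then 0 else if k = 3 then 1 else if k = 2 then 2 else 3)) := by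
  classical
  have only : ∀ f ∈ S, k < w f + 1 → S.lcm E ∣ E f := by
    intro f hf hlt
    refine Finset.lcm_dvd fun g hg => ?_
    by_cases h : same f g
    · rw [hsame f hf g hg h]
    · have := h2 f hf g hg h; have := (hw g hg).1; omega
  have onemore : ∀ f ∈ S, k = w f + 1 →
      S.lcm E ∣ E f ∨ S.lcm E ∣ Nat.lcm (E f) (q + 1) ∨ S.lcm E ∣ Nat.lcm (E f) (q - 1) := by
    intro f hf hk1
    by_cases hg : ∃ g ∈ S, ¬ same f g
    · obtain ⟨g, hg, hfg⟩ := hg
      have hwg : w g = 1 := by have := h2 f hf g hg hfg; have := (hw g hg).1; omega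
      have key : S.lcm E ∣ Nat.lcm (E f) (E g) := by
        refine Finset.lcm_dvd fun h hh => ?_
        by_cases a : same f h
        · rw [hsame f hf h hh a]; exact Nat.dvd_lcm_left _ _
        by_cases b : same g h
        · rw [hsame g hg h hh b]; exact Nat.dvd_lcm_right _ _
        have := h3 f hf g hg h hh hfg a b
        have := (hw h hh).1
        omega
      rcases (hw g hg).2.2 with e | e <;> rw [e, hwg, pow_one] at key
      exacts [Or.inr (Or.inl key), Or.inr (Or.inr key)]
    · push Not at hg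
      exact Or.inl (Finset.lcm_dvd fun g hg' => (hsame f hf g hg' (hg g hg')).symm ▸ dvd_rfl)
  have e1 : (q + 1) * (q - 1) = q ^ 2 - 1 := by rw [← Nat.sq_sub_sq, one_pow]
  have e2 : (q ^ 2 + 1) * (q ^ 2 - 1) = q ^ 4 - 1 := by rw [← Nat.sq_sub_sq, one_pow, ← pow_mul]
  have low : ∀ f ∈ S, w f ≤ 1 → E f ∣ q ^ 2 - 1 := by
    intro f hf h1
    have hw1 : w f = 1 := by have := (hw f hf).1; omega
    rcases (hw f hf).2.2 with e | e <;> rw [e, hw1, pow_one, ← e1]
    exacts [dvd_mul_right _ _, dvd_mul_left _ _]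
  have low2 : ∀ f ∈ S, w f ≤ 2 → E f ≠ q ^ 2 + 1 → E f ∣ q ^ 2 - 1 := by
    intro f hf h1 hne
    rcases Nat.lt_or_ge (w f) 2 with h | h
    · exact low f hf (by omega)
    · have hw2 : w f = 2 := by omega
      rcases (hw f hf).2.2 with e | e <;> rw [hw2] at e
      exacts [absurd e hne, e ▸ dvd_rfl]
  rcases (by omega : k = 0 ∨ k = 1 ∨ k = 2 ∨ k = 3 ∨ k = 4) with rfl | rfl | rfl | rfl | rfl
  · refine ⟨8 * (q + 1), by simp [tops], ?_⟩
    have : S = ∅ := Finset.eq_empty_of_forall_notMem fun f hf => by have := (hw f hf); omega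
    rw [this, Finset.lcm_empty, one_mul]
    simp
  · rcases S.eq_empty_or_nonempty with rfl | ⟨f, hf⟩
    · refine ⟨8 * (q + 1), by simp [tops], ?_⟩
      rw [Finset.lcm_empty, one_mul]
      simp
    have hw1 : w f = 1 := by have := hw f hf; omega
    have := Nat.mul_dvd_mul_left 8 (only f hf (by omega))
    rcases (hw f hf).2.2 with e | e <;> rw [e, hw1, pow_one] at this
    · exact ⟨8 * (q + 1), by simp [tops], by simpa [mul_comm] using this⟩
    · exact ⟨8 * (q - 1), by simp [tops], by simpa [mul_comm] using this⟩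
  · by_cases hA : ∃ f ∈ S, w f = 2 ∧ E f = q ^ 2 + 1
    · obtain ⟨f, hf, hw2, e⟩ := hA
      have := only f hf (by omega)
      rw [e] at this
      exact ⟨4 * (q ^ 2 + 1), by simp [tops], by simpa [mul_comm] using Nat.mul_dvd_mul_left 4 this⟩
    · push Not at hA
      have : S.lcm E ∣ q ^ 2 - 1 := Finset.lcm_dvd fun f hf => by
        rcases Nat.lt_or_ge (w f) 2 with h | h
        · exact low f hf (by omega)
        · exact low2 f hf (hw f hf).2.1 (hA f hf (by have := (hw f hf).2.1; omega))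
      exact ⟨4 * (q ^ 2 - 1), by simp [tops], by simpa [mul_comm] using Nat.mul_dvd_mul_left 4 this⟩
  · by_cases hA : ∃ f ∈ S, w f = 3
    · obtain ⟨f, hf, hw3⟩ := hA
      have := Nat.mul_dvd_mul_left 2 (only f hf (by omega))
      rcases (hw f hf).2.2 with e | e <;> rw [e, hw3] at this
      · exact ⟨2 * (q ^ 3 + 1), by simp [tops], by simpa [mul_comm] using this⟩
      · exact ⟨2 * (q ^ 3 - 1), by simp [tops], by simpa [mul_comm] using this⟩
    push Not at hA
    by_cases hB : ∃ f ∈ S, w f = 2 ∧ E f = q ^ 2 + 1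
    · obtain ⟨f, hf, hw2, e⟩ := hB
      have key := onemore f hf (by omega)
      rw [e] at key
      rcases key with key | key | key
      · have := Nat.mul_dvd_mul_left 2 (key.trans (dvd_mul_right (q ^ 2 + 1) (q + 1)))
        exact ⟨2 * ((q ^ 2 + 1) * (q + 1)), by simp [tops], by simpa [mul_comm] using this⟩
      · have := Nat.mul_dvd_mul_left 2 (key.trans (Nat.lcm_dvd_mul _ _))
        exact ⟨2 * ((q ^ 2 + 1) * (q + 1)), by simp [tops], by simpa [mul_comm] using this⟩
      · have := Nat.mul_dvd_mul_left 2 (key.trans (Nat.lcm_dvd_mul _ _))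
        exact ⟨2 * ((q ^ 2 + 1) * (q - 1)), by simp [tops], by simpa [mul_comm] using this⟩
    · push Not at hB
      have : S.lcm E ∣ q ^ 2 - 1 := Finset.lcm_dvd fun f hf => by
        have hle : w f ≤ 2 := by have := hA f hf; have := (hw f hf).2.1; omega
        rcases Nat.lt_or_ge (w f) 2 with h | h
        · exact low f hf (by omega)
        · exact low2 f hf hle (hB f hf (by omega))
      refine ⟨4 * (q ^ 2 - 1), by simp [tops], ?_⟩
      have h' := Nat.mul_dvd_mul this (show (2 : ℕ) ∣ 4 by norm_num)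
      simpa [mul_comm] using h'
  · simp only [if_true, pow_zero, mul_one]
    by_cases hA : ∃ f ∈ S, w f = 4
    · obtain ⟨f, hf, hw4⟩ := hA
      have := only f hf (by omega)
      rcases (hw f hf).2.2 with e | e <;> rw [e, hw4] at this
      exacts [⟨_, by simp [tops], this⟩, ⟨_, by simp [tops], this⟩]
    push Not at hA
    by_cases hB : ∃ f ∈ S, w f = 3
    · obtain ⟨f, hf, hw3⟩ := hB
      have key := onemore f hf (by omega)
      have hqp : q + 1 ∣ q ^ 3 + 1 := by
        have := Odd.nat_add_dvd_pow_add_pow q 1 (show Odd 3 by decide)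
        simpa using this
      have hqm : q - 1 ∣ q ^ 3 - 1 := Nat.sub_one_dvd_pow_sub_one q 3
      rcases (hw f hf).2.2 with e | e <;> rw [e, hw3] at key
      · rcases key with key | key | key
        · exact ⟨(q ^ 3 + 1) * (q - 1), by simp [tops], key.trans (dvd_mul_right _ _)⟩
        · exact ⟨(q ^ 3 + 1) * (q - 1), by simp [tops],
            key.trans ((Nat.lcm_dvd dvd_rfl hqp).trans (dvd_mul_right _ _))⟩
        · exact ⟨(q ^ 3 + 1) * (q - 1), by simp [tops], key.trans (Nat.lcm_dvd_mul _ _)⟩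
      · rcases key with key | key | key
        · exact ⟨(q ^ 3 - 1) * (q + 1), by simp [tops], key.trans (dvd_mul_right _ _)⟩
        · exact ⟨(q ^ 3 - 1) * (q + 1), by simp [tops], key.trans (Nat.lcm_dvd_mul _ _)⟩
        · exact ⟨(q ^ 3 - 1) * (q + 1), by simp [tops],
            key.trans ((Nat.lcm_dvd dvd_rfl hqm).trans (dvd_mul_right _ _))⟩
    push Not at hB
    refine ⟨q ^ 4 - 1, by simp [tops], Finset.lcm_dvd fun f hf => ?_⟩
    have hle : w f ≤ 2 := by have := hA f hf; have := hB f hf; have := (hw f hf).2.1; omega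
    rw [← e2]
    by_cases he : E f = q ^ 2 + 1
    · rw [he]; exact dvd_mul_right _ _
    · rcases Nat.lt_or_ge (w f) 2 with h | h
      · exact (low f hf (by omega)).trans (dvd_mul_left _ _)
      · exact (low2 f hf hle he).trans (dvd_mul_left _ _)

variable {F : Type*} [Field F] [Finite F] [CharP F 2]

omit [CharP F 2] in
theorem card_two_le : 2 ≤ Nat.card F := Finite.one_lt_card

theorem card_even : 2 ∣ Nat.card F := by
  have : Fintype F := Fintype.ofFinite F
  obtain ⟨m, _, hcard⟩ := FiniteField.card F 2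
  rw [Nat.card_eq_fintype_card, hcard]
  exact dvd_pow_self 2 m.2.ne'

set_option maxRecDepth 16000 in
/-- The shape of the characteristic polynomial of a symplectic matrix. -/
theorem data_of_symp (g : Matrix.symplecticGroup (Fin 4) F) :
    Data (Nat.card F) (g : Matrix (Fin 4 ⊕ Fin 4) (Fin 4 ⊕ Fin 4) F).charpoly := by
  classical
  obtain ⟨hmem, hdeg, hst⟩ := factors_spec g
  set χ := (g : Matrix (Fin 4 ⊕ Fin 4) (Fin 4 ⊕ Fin 4) F).charpoly with hχ
  set s := normalizedFactors χ with hs
  have hneg : (X + 1 : F[X]) = X - 1 := by rw [CharTwo.sub_eq_add]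
  set S := s.toFinset.filter (fun f => f ≠ X - 1) with hS
  have hSs : ∀ f ∈ S, f ∈ s := fun f hf => Multiset.mem_toFinset.1 (Finset.mem_filter.1 hf).1
  have hT : ∀ f ∈ S, TorusPoly f := fun f hf =>
    ⟨(hmem f (hSs f hf)).1, (hmem f (hSs f hf)).2.1, (hmem f (hSs f hf)).2.2, (Finset.mem_filter.1 hf).2,
      hneg ▸ (Finset.mem_filter.1 hf).2⟩
  have hSst : ∀ f ∈ S, star f ∈ S := fun f hf =>
    Finset.mem_filter.2 ⟨Multiset.mem_toFinset.2 (hst f (hSs f hf)).1, (hT f hf).star.2.2.2.1⟩
  obtain ⟨k, x, hk, -⟩ := exists_torus S hT hSst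
  have hsum : ∑ f ∈ S, s.count f * f.natDegree + s.count (X - 1) = 8 := by
    have h1 : ∑ f ∈ s.toFinset, s.count f * f.natDegree = 8 := by
      rw [show 8 = 2 * 4 from rfl, ← hdeg, Finset.sum_multiset_map_count]; rfl
    rw [← h1, ← Finset.sum_filter_add_sum_filter_not s.toFinset (fun f => f ≠ X - 1)]
    congr 1
    simp only [not_not, Finset.filter_eq', Multiset.mem_toFinset]
    split_ifs with h
    · rw [Finset.sum_singleton, show (X - 1 : F[X]).natDegree = 1 by simpa using natDegree_X_sub_C (1 : F), mul_one]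
    · rw [Finset.sum_empty, Multiset.count_eq_zero.2 h]
  have hpos : ∀ f ∈ S, 1 ≤ s.count f ∧ 1 ≤ f.natDegree := fun f hf =>
    ⟨Multiset.count_pos.2 (hSs f hf), (hT f hf).1.natDegree_pos⟩
  have hsplit : ∑ f ∈ S, s.count f * f.natDegree = 2 * k + ∑ f ∈ S, (s.count f - 1) * f.natDegree := by
    rw [hk, ← Finset.sum_add_distrib]
    refine Finset.sum_congr rfl fun f hf => ?_
    rw [add_comm f.natDegree, ← Nat.succ_mul]
    congr 1
    have := (hpos f hf).1
    omega
  have hk4 : k ≤ 4 := by omega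
  let O : F[X] → Finset F[X] := fun f => {f, star f}
  let w : F[X] → ℕ := fun f => if star f = f then f.natDegree / 2 else f.natDegree
  have hOsum : ∀ f ∈ S, ∑ g ∈ O f, g.natDegree = 2 * w f := by
    intro f hf
    obtain ⟨hi, hm, h0, h1, h2⟩ := hT f hf
    by_cases h : star f = f
    · obtain ⟨d, -, hd, -⟩ := selfStar_spec hi hm h0 h h1 h2
      simp only [O, w, h, if_true, Finset.pair_eq_singleton, Finset.sum_singleton]
      omega
    · simp only [O, w, if_neg h]
      rw [Finset.sum_pair (fun e => h e.symm), natDegree_star h0]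
      omega
  have hOS : ∀ f ∈ S, O f ⊆ S := fun f hf g hg => by
    simp only [O, Finset.mem_insert, Finset.mem_singleton] at hg
    rcases hg with rfl | rfl
    exacts [hf, hSst f hf]
  have hdisj : ∀ f ∈ S, ∀ g ∈ S, g ∉ O f → Disjoint (O f) (O g) := by
    intro f hf g hg hgf
    simp only [O, Finset.mem_insert, Finset.mem_singleton, not_or] at hgf
    rw [Finset.disjoint_left]
    intro h h1 h2
    simp only [O, Finset.mem_insert, Finset.mem_singleton] at h1 h2
    have ef := star_star (hT f hf).2.1 (hT f hf).2.2.1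
    have eg := star_star (hT g hg).2.1 (hT g hg).2.2.1
    rcases h1 with rfl | rfl <;> rcases h2 with h2 | h2
    · exact hgf.1 h2.symm
    · exact hgf.2 (by rw [h2, eg])
    · exact hgf.2 h2.symm
    · exact hgf.1 (by rw [← eg, ← h2, ef])
  have hle : ∀ T : Finset F[X], T ⊆ S → ∑ g ∈ T, g.natDegree ≤ 2 * k := fun T hT' =>
    hk ▸ Finset.sum_le_sum_of_subset hT'
  have hexp : ∀ f ∈ S, torusExp f = Nat.card F ^ w f + 1 ∨ torusExp f = Nat.card F ^ w f - 1 := fun f _ => by
    by_cases h : star f = f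
    · exact Or.inl (by simp [torusExp, w, h])
    · exact Or.inr (by simp [torusExp, w, if_neg h])
  have hord := lcm_bound (card_two_le (F := F)) S w torusExp (fun f g => g ∈ O f)
    (fun f hf => ⟨by
      have h1 := hOsum f hf
      have h2 : f.natDegree ≤ ∑ g ∈ O f, g.natDegree :=
        Finset.single_le_sum (f := fun g : F[X] => g.natDegree) (fun _ _ => Nat.zero_le _) (by simp [O])
      have := (hpos f hf).2
      omega, by have := hle _ (hOS f hf); have := hOsum f hf; omega, hexp f hf⟩)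
    (fun f hf g hg h => by
      simp only [O, Finset.mem_insert, Finset.mem_singleton] at h
      rcases h with rfl | rfl
      exacts [rfl, torusExp_star (hT f hf)])
    (fun f hf g hg h => by
      have := hle _ (Finset.union_subset (hOS f hf) (hOS g hg))
      rw [Finset.sum_union (hdisj f hf g hg h), hOsum f hf, hOsum g hg] at this
      omega)
    (fun f hf g hg h hh hfg hfh hgh => by
      have := hle _ (Finset.union_subset (Finset.union_subset (hOS f hf) (hOS g hg)) (hOS h hh))
      rw [Finset.sum_union (Finset.disjoint_union_left.2 ⟨hdisj f hf h hh hfh, hdisj g hg h hh hgh⟩),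
        Finset.sum_union (hdisj f hf g hg hfg), hOsum f hf, hOsum g hg, hOsum h hh] at this
      omega) hk4
  set c := (if k = 4 then 0 else if k = 3 then 1 else if k = 2 then 2 else 3) with hc
  set L := S.lcm torusExp with hL
  have hodd : Odd L := by
    rw [← Nat.not_even_iff_odd, even_iff_two_dvd]
    intro h
    have h' : 2 ∣ ∏ f ∈ S, torusExp f := h.trans (Finset.lcm_dvd fun f hf => Finset.dvd_prod_of_mem _ hf)
    obtain ⟨f, hf, hpf⟩ := Nat.prime_two.prime.exists_mem_finset_dvd h'
    exact Nat.prime_two.coprime_iff_not_dvd.1 (Nat.coprime_comm.1 (torusExp_coprime 2 (hT f hf))) hpf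
  refine ⟨L, c, hodd, hord, ?_⟩
  have hcount : ∀ f ∈ s, f ∣ X ^ L - 1 ∧ s.count f ≤ 2 ^ c := by
    intro f hf
    have hb : ∀ n : ℕ, n ≤ 8 - 2 * k ∨ n ≤ 1 ∨ (2 * (n - 1) ≤ 8 - 2 * k) → n ≤ 2 ^ c := by
      intro n hn
      rcases (by omega : k = 0 ∨ k = 1 ∨ k = 2 ∨ k = 3 ∨ k = 4) with rfl | rfl | rfl | rfl | rfl <;>
        norm_num [hc] <;> omega
    by_cases h : f = X - 1
    · subst h
      exact ⟨sub_one_dvd_pow_sub_one _ L, hb _ (Or.inl (by omega))⟩
    have hfS : f ∈ S := Finset.mem_filter.2 ⟨Multiset.mem_toFinset.2 hf, h⟩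
    refine ⟨?_, hb _ (Or.inr (Or.inr ?_))⟩
    · obtain ⟨r, hr⟩ := Finset.dvd_lcm (f := torusExp) hfS
      refine (torusExp_dvd (hT f hfS)).trans ?_
      rw [hL, hr, pow_mul]
      exact sub_one_dvd_pow_sub_one _ r
    · have h1 : ∑ g ∈ O f, (s.count g - 1) * g.natDegree = (s.count f - 1) * (2 * w f) := by
        rw [← hOsum f hfS, Finset.mul_sum]
        refine Finset.sum_congr rfl fun g hg => ?_
        simp only [O, Finset.mem_insert, Finset.mem_singleton] at hg
        rcases hg with rfl | rfl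
        · rfl
        · rw [(hst f hf).2]
      have h2 := Finset.sum_le_sum_of_subset (f := fun g => (s.count g - 1) * g.natDegree) (hOS f hfS)
      rw [h1] at h2
      have hw1 : 1 ≤ w f := by
        have := hOsum f hfS
        have h3 : f.natDegree ≤ ∑ g ∈ O f, g.natDegree :=
          Finset.single_le_sum (f := fun g : F[X] => g.natDegree) (fun _ _ => Nat.zero_le _) (by simp [O])
        have := (hpos f hfS).2
        omega
      calc 2 * (s.count f - 1) = (s.count f - 1) * 2 := mul_comm _ _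
        _ ≤ (s.count f - 1) * (2 * w f) := Nat.mul_le_mul_left _ (by omega)
        _ ≤ _ := by omega
  have hne : χ ≠ 0 := (Matrix.charpoly_monic _).ne_zero
  refine (prod_normalizedFactors hne).symm.dvd.trans ?_
  rw [Finset.prod_multiset_count]
  refine Finset.prod_dvd_of_coprime ?_ ?_
  · intro f hf g' hg hfg
    have hf' := Multiset.mem_toFinset.1 hf
    have hg' := Multiset.mem_toFinset.1 hg
    refine IsCoprime.pow ((hmem f hf').1.coprime_iff_not_dvd.2 fun h => hfg ?_)
    exact eq_of_monic_of_associated (hmem f hf').2.1 (hmem g' hg').2.1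
      ((hmem f hf').1.associated_of_dvd (hmem g' hg').1 h)
  · intro f hf
    have hf' := Multiset.mem_toFinset.1 hf
    exact (pow_dvd_pow_of_dvd (hcount f hf').1 _).trans (pow_dvd_pow _ (hcount f hf').2)

end CfsgLib.SpecEight
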