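import Cfsg.Agent.Forms.OrthBasics
import Cfsg.Agent.SemiClasses.HalfSum
import Cfsg.Agent.OrthOrder.Count
import Cfsg.Agent.GLOrders.Basic
import Mathlib.FieldTheory.Finite.Extension
import Mathlib.RingTheory.Trace.Basic

/-!
# Orthogonal spaces with isometries of prescribed order, even characteristic
-/

set_option autoImplicit false

open QuadraticMap Matrix CfsgLib.Forms CfsgLib.SemiClasses

namespace CfsgLib.SpecEight

variable {F : Type*} [Field F]

/-- The matrix of an isometry. -/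
abbrev mat {ι : Type} [Fintype ι] [DecidableEq ι] {Q : QuadraticForm F (ι → F)}
    (g : Cfsg.isometryGroup F ⇑Q) : Matrix ι ι F := ((g : GL ι F) : Matrix ι ι F)

section Basic

variable {ι κ : Type} [Fintype ι] [DecidableEq ι] [Fintype κ] [DecidableEq κ]
  {Q : QuadraticForm F (ι → F)} {Q' : QuadraticForm F (κ → F)}

theorem mat_ext {g h : Cfsg.isometryGroup F ⇑Q} (e : mat g = mat h) : g = h :=
  Subtype.ext (Units.ext e)

theorem mat_one : mat (1 : Cfsg.isometryGroup F ⇑Q) = 1 := rfl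

theorem mat_mul (g h : Cfsg.isometryGroup F ⇑Q) : mat (g * h) = mat g * mat h := rfl

theorem mat_pow (g : Cfsg.isometryGroup F ⇑Q) : ∀ k : ℕ, mat (g ^ k) = mat g ^ k
  | 0 => rfl
  | k + 1 => by rw [pow_succ, mat_mul, mat_pow g k, pow_succ]

theorem Q_mat (g : Cfsg.isometryGroup F ⇑Q) (v : ι → F) : Q (mat g *ᵥ v) = Q v :=
  mem_isometryGroup.1 g.2 v

theorem exists_iso_of_matrix (M : Matrix ι ι F) {n : ℕ} (hn : n ≠ 0) (hM : M ^ n = 1)
    (hQ : ∀ v, Q (M *ᵥ v) = Q v) : ∃ g : Cfsg.isometryGroup F ⇑Q, mat g = M :=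
  ⟨⟨Units.ofPowEqOne M n hM hn, mem_isometryGroup.2 fun v => hQ v⟩, rfl⟩

theorem blockHom_injective : Function.Injective (blockHom Q Q') := by
  intro p r h
  have h1 : Matrix.fromBlocks (mat p.1) 0 0 (mat p.2) = Matrix.fromBlocks (mat r.1) 0 0 (mat r.2) := by
    have := congrArg mat h
    rwa [show mat (blockHom Q Q' p) = _ from coe_blockHom p, show mat (blockHom Q Q' r) = _ from coe_blockHom r] at this
  rw [Matrix.fromBlocks_inj] at h1
  exact Prod.ext (mat_ext h1.1) (mat_ext h1.2.2.2)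

theorem orderOf_blockHom (g : Cfsg.isometryGroup F ⇑Q) (h : Cfsg.isometryGroup F ⇑Q') :
    orderOf (blockHom Q Q' (g, h)) = Nat.lcm (orderOf g) (orderOf h) := by
  rw [orderOf_injective _ blockHom_injective, Prod.orderOf_mk]

theorem blocks_pow_mulVec (A : Matrix ι ι F) (B : Matrix κ κ F) (v : κ → F) : ∀ k : ℕ,
    (Matrix.fromBlocks A 0 0 B) ^ k *ᵥ Sum.elim (0 : ι → F) v = Sum.elim (0 : ι → F) (B ^ k *ᵥ v)
  | 0 => by simp
  | k + 1 => by
    rw [pow_succ', ← Matrix.mulVec_mulVec, blocks_pow_mulVec A B v k, fromBlocks_one_mulVec, Sum.elim_comp_inl,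
      Sum.elim_comp_inr, Matrix.mulVec_zero, pow_succ', Matrix.mulVec_mulVec]

theorem blocks_sub_one (A : Matrix ι ι F) (B : Matrix κ κ F) :
    Matrix.fromBlocks A 0 0 B - 1 = Matrix.fromBlocks (A - 1) 0 0 (B - 1) := by
  rw [← Matrix.fromBlocks_one, sub_eq_add_neg, Matrix.fromBlocks_neg, Matrix.fromBlocks_add]
  simp [sub_eq_add_neg]

end Basic

/-- An orthogonal space of dimension `2 d` and given type with an isometry of given order. -/
def Piece (F : Type*) [Field F] (d : ℕ) (s : Prop) (n : ℕ) : Prop :=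
  ∃ (ι : Type) (_ : Fintype ι) (_ : DecidableEq ι) (Q : QuadraticForm F (ι → F))
    (g : Cfsg.isometryGroup F ⇑Q), (polarBilin Q).Nondegenerate ∧ Fintype.card ι = 2 * d ∧ (HasHalf Q ↔ s) ∧
      orderOf g = n

theorem Piece.congr {d d' n n' : ℕ} {s t : Prop} (h : Piece F d s n) (hd : d = d') (hs : s ↔ t) (hn : n = n') :
    Piece F d' t n' := by
  obtain ⟨ι, i1, i2, Q, g, h1, h2, h3, h4⟩ := h
  exact ⟨ι, i1, i2, Q, g, h1, hd ▸ h2, h3.trans hs, hn ▸ h4⟩

theorem Piece.add [Finite F] {d e n m : ℕ} {s t : Prop} (h : Piece F d s n) (h' : Piece F e t m) :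
    Piece F (d + e) (s ↔ t) (Nat.lcm n m) := by
  obtain ⟨ι, _, _, Q, g, h1, h2, h3, h4⟩ := h
  obtain ⟨κ, _, _, Q', g', h1', h2', h3', h4'⟩ := h'
  refine ⟨ι ⊕ κ, inferInstance, inferInstance, sumForm Q Q', blockHom Q Q' (g, g'), nondegenerate_sumForm h1 h1',
    by rw [Fintype.card_sum, h2, h2']; ring, ?_, by rw [orderOf_blockHom, h4, h4']⟩
  rw [hasHalf_sum_iff h1 h1' ⟨d, by omega⟩ ⟨e, by omega⟩, h3, h3']

/-- A plane of each type. -/
theorem exists_plane (F : Type*) [Field F] [Finite F] (s : Prop) :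
    ∃ (ι : Type) (_ : Fintype ι) (_ : DecidableEq ι) (Q : QuadraticForm F (ι → F)),
      (polarBilin Q).Nondegenerate ∧ Fintype.card ι = 2 ∧ (HasHalf Q ↔ s) := by
  by_cases hs : s
  · exact ⟨Fin 1 ⊕ Fin 1, inferInstance, inferInstance, quadPlus F 1, nondegenerate_quadPlus 1, by simp,
      iff_of_true (hasHalf_quadPlus 1) hs⟩
  · obtain ⟨c, hc⟩ := exists_irreducible_quadratic F
    exact ⟨(Fin 0 ⊕ Fin 0) ⊕ Fin 2, inferInstance, inferInstance, quadMinus F 0 1 c,
      nondegenerate_quadMinus 0 (anis_of_irred hc), by simp,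
      iff_of_false (not_hasHalf_quadMinus 0 (anis_of_irred hc)) hs⟩

/-- `GL_d` inside the plus type isometry group of dimension `2 d`. -/
theorem piece_plus [Finite F] (d : ℕ) (hd : 1 ≤ d) : Piece F d True (Nat.card F ^ d - 1) := by
  classical
  obtain ⟨A, hA⟩ := CfsgLib.GLOrders.exists_singer (F := F) d hd
  let M : GL (Fin d) F → Matrix (Fin d ⊕ Fin d) (Fin d ⊕ Fin d) F := fun A =>
    Matrix.fromBlocks (A : Matrix (Fin d) (Fin d) F) 0 0 ((A⁻¹ : GL (Fin d) F) : Matrix (Fin d) (Fin d) F)ᵀ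
  have hmul : ∀ A B, M (A * B) = M A * M B := fun A B => by
    simp only [M, Matrix.fromBlocks_multiply, Units.val_mul, _root_.mul_inv_rev, Matrix.mul_zero, Matrix.zero_mul, add_zero,
      zero_add, Matrix.transpose_mul]
  have hone : M 1 = 1 := by simp [M]
  have hQ : ∀ (A : GL (Fin d) F) (v : Fin d ⊕ Fin d → F), quadPlus F d (M A *ᵥ v) = quadPlus F d v := by
    intro A v
    have key : ∀ w : Fin d ⊕ Fin d → F, quadPlus F d w = (w ∘ Sum.inl) ⬝ᵥ (w ∘ Sum.inr) := fun w => by
      rw [coe_quadPlus]; rfl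
    rw [key, key, fromBlocks_one_mulVec, Sum.elim_comp_inl, Sum.elim_comp_inr, Matrix.dotProduct_mulVec,
      Matrix.vecMul_transpose, Matrix.mulVec_mulVec, ← Units.val_mul, inv_mul_cancel, Units.val_one, Matrix.one_mulVec]
  let φ : GL (Fin d) F →* Cfsg.isometryGroup F ⇑(quadPlus F d) :=
    { toFun := fun A => ⟨⟨M A, M A⁻¹, by rw [← hmul, mul_inv_cancel, hone], by rw [← hmul, inv_mul_cancel, hone]⟩,
        mem_isometryGroup.2 fun v => hQ A v⟩
      map_one' := mat_ext hone
      map_mul' := fun A B => mat_ext (hmul A B) }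
  have hinj : Function.Injective φ := fun A B h =>
    Units.ext (Matrix.fromBlocks_inj.1 (congrArg mat h : M A = M B)).1
  exact ⟨Fin d ⊕ Fin d, inferInstance, inferInstance, quadPlus F d, φ A, nondegenerate_quadPlus d,
    by simp [two_mul], iff_of_true (hasHalf_quadPlus d) trivial, by rw [orderOf_injective _ hinj, hA]⟩

/-- A torus of order `q ^ d + 1` acting freely, so in the minus type group. -/
theorem piece_minus [Finite F] [CharP F 2] (d : ℕ) (hd : 1 ≤ d) : Piece F d False (Nat.card F ^ d + 1) := by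
  classical
  have h2 : (2 : F) = 0 := CharTwo.two_eq_zero
  have : NeZero (2 * d) := ⟨by omega⟩
  let K := FiniteField.Extension F 2 (2 * d)
  have : Fintype F := Fintype.ofFinite F
  set q := Nat.card F with hq
  have hK : Nat.card K = q ^ (2 * d) := FiniteField.natCard_extension F 2 (2 * d)
  have : Finite K := Nat.finite_of_card_ne_zero (by rw [hK]; exact pow_ne_zero _ Nat.card_pos.ne')
  have : Fintype K := Fintype.ofFinite K
  let fr : K →ₐ[F] K := FiniteField.frobeniusAlgHom F K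
  have hfr : ∀ z : K, fr z = z ^ q := fun z => by
    rw [hq, Nat.card_eq_fintype_card]; rfl
  let σ : K →ₐ[F] K := fr ^ d
  have hσ : ∀ z : K, σ z = z ^ q ^ d := by
    have : ∀ (j : ℕ) (z : K), (fr ^ j) z = z ^ q ^ j := fun j => by
      induction j with
      | zero => intro z; simp
      | succ j ih =>
        intro z
        rw [pow_succ, AlgHom.mul_apply, ih, hfr, ← pow_mul, ← pow_succ']
    exact this d
  have hσσ : ∀ z : K, σ (σ z) = z := fun z => by
    rw [hσ, hσ, ← pow_mul, ← pow_add, show d + d = 2 * d by ring, ← hK, Nat.card_eq_fintype_card]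
    exact FiniteField.pow_card z
  obtain ⟨w, hw⟩ := IsCyclic.exists_generator (α := Kˣ)
  have hq2 : 2 ≤ q := Finite.one_lt_card
  have hqd : 2 ≤ q ^ d := hq2.trans (Nat.le_self_pow (by omega) q)
  have hwo : orderOf w = (q ^ d + 1) * (q ^ d - 1) := by
    rw [orderOf_eq_card_of_forall_mem_zpowers hw, Nat.card_units, hK, ← Nat.sq_sub_sq, one_pow, ← pow_mul,
      mul_comm 2 d]
  obtain ⟨c, hc⟩ : ∃ c : K, σ c + c ≠ 0 := by
    refine ⟨w, fun h => ?_⟩
    have : CharP K 2 := charP_of_injective_algebraMap (algebraMap F K).injective 2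
    rw [CharTwo.add_eq_zero, hσ] at h
    have h' : w ^ q ^ d = w := Units.ext (by rw [Units.val_pow_eq_pow_val, h])
    have h'' : w ^ (q ^ d - 1) = 1 := by
      have e : q ^ d = (q ^ d - 1) + 1 := by omega
      rw [e, pow_succ] at h'
      exact mul_right_cancel (h'.trans (one_mul w).symm)
    have := Nat.le_of_dvd (by omega) (orderOf_dvd_of_pow_eq_one h'')
    rw [hwo] at this
    have : 3 * (q ^ d - 1) ≤ q ^ d - 1 := le_trans (Nat.mul_le_mul_right _ (by omega)) this
    omega
  set x : Kˣ := w ^ (q ^ d - 1) with hx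
  have hxo : orderOf x = q ^ d + 1 := by
    rw [hx, orderOf_pow_of_dvd (by omega) (hwo ▸ dvd_mul_left _ _), hwo, Nat.mul_div_cancel _ (by omega)]
  have hxσ : (x : K) * σ x = 1 := by
    rw [hσ, ← pow_succ', ← Units.val_pow_eq_pow_val, ← hxo, pow_orderOf_eq_one, Units.val_one]
  let B : LinearMap.BilinMap F K F := LinearMap.mk₂ F (fun u v => Algebra.trace F K (c * u * σ v))
    (fun a b v => by rw [mul_add, add_mul, map_add])
    (fun t a v => by rw [Algebra.mul_smul_comm, Algebra.smul_mul_assoc, map_smul])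
    (fun u a b => by rw [map_add, mul_add, map_add])
    (fun t u a => by rw [map_smul, Algebra.mul_smul_comm, map_smul])
  let bs : Module.Basis (Fin (2 * d)) F K :=
    (Module.finBasis F K).reindex (finCongr (FiniteField.finrank_extension F 2 (2 * d)))
  let e : (Fin (2 * d) → F) ≃ₗ[F] K := bs.equivFun.symm
  let Q : QuadraticForm F (Fin (2 * d) → F) := B.toQuadraticMap.comp (e : (Fin (2 * d) → F) →ₗ[F] K)
  have hQ : ∀ v, Q v = Algebra.trace F K (c * e v * σ (e v)) := fun v => rfl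
  have hpol : ∀ u v, polar Q u v = Algebra.trace F K ((σ c + c) * e u * σ (e v)) := by
    intro u v
    simp only [polar, hQ, map_add, mul_add, add_mul, map_add]
    let σe : K ≃ₐ[F] K := AlgEquiv.ofBijective σ σ.bijective
    have hsw : Algebra.trace F K (c * e v * σ (e u)) = Algebra.trace F K (σ c * e u * σ (e v)) := by
      rw [← Algebra.trace_eq_of_algEquiv σe (c * e v * σ (e u))]
      show Algebra.trace F K (σ (c * e v * σ (e u))) = _
      rw [map_mul σ, map_mul σ, hσσ, mul_right_comm]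
    rw [hsw]
    ring
  have hnd : (polarBilin Q).Nondegenerate := by
    refine nondegenerate_iff.2 fun u hu => e.injective ?_
    rw [map_zero]
    have hz : ∀ y : K, Algebra.traceForm F K ((σ c + c) * e u) y = 0 := fun y => by
      have := hu (e.symm (σ y))
      rwa [hpol, LinearEquiv.apply_symm_apply, hσσ] at this
    exact (mul_eq_zero.1 ((traceForm_nondegenerate F K).1 _ hz)).resolve_left hc
  let f : (Fin (2 * d) → F) →ₗ[F] (Fin (2 * d) → F) :=
    (e.symm : K →ₗ[F] (Fin (2 * d) → F)) ∘ₗ (LinearMap.mulLeft F (x : K)) ∘ₗ (e : (Fin (2 * d) → F) →ₗ[F] K)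
  have hf : ∀ v, e (LinearMap.toMatrix' f *ᵥ v) = (x : K) * e v := fun v => by
    rw [LinearMap.toMatrix'_mulVec]; simp [f]
  have hfp : ∀ (j : ℕ) (v), e (LinearMap.toMatrix' f ^ j *ᵥ v) = (x : K) ^ j * e v := by
    intro j
    induction j with
    | zero => intro v; simp
    | succ j ih => intro v; rw [pow_succ', ← Matrix.mulVec_mulVec, hf, ih, pow_succ', mul_assoc]
  have hf1 : LinearMap.toMatrix' f ^ (q ^ d + 1) = 1 := Matrix.ext_of_mulVec_single fun i => e.injective (by
    rw [hfp, ← Units.val_pow_eq_pow_val, ← hxo, pow_orderOf_eq_one, Units.val_one, one_mul, Matrix.one_mulVec])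
  obtain ⟨g, hg⟩ := exists_iso_of_matrix (Q := Q) _ (by omega) hf1 (fun v => by
    rw [hQ, hQ, hf, map_mul σ]
    refine congrArg (Algebra.trace F K) ?_
    linear_combination (c * e v * σ (e v)) * hxσ)
  have hgo : orderOf g = q ^ d + 1 := by
    refine Nat.dvd_antisymm (orderOf_dvd_of_pow_eq_one (mat_ext (by rw [mat_pow, hg, hf1, mat_one]))) ?_
    rw [← hxo]
    refine orderOf_dvd_of_pow_eq_one (Units.ext ?_)
    have h := hfp (orderOf g) (e.symm 1)
    rw [← hg, ← mat_pow, pow_orderOf_eq_one, mat_one, Matrix.one_mulVec, LinearEquiv.apply_symm_apply, mul_one] at h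
    rw [Units.val_pow_eq_pow_val, Units.val_one, ← h]
  refine ⟨Fin (2 * d), inferInstance, inferInstance, Q, g, hnd, by simp, iff_false_intro fun hh => ?_, hgo⟩
  -- a freely acting group of order `q ^ d + 1` on the non-zero singular vectors
  obtain ⟨φ, hφ⟩ := exists_iso_plus hnd (m := d) (by simp) hh
  let Z := {u : Kˣ // Q (e.symm (u : K)) = 0}
  have hcount : Nat.card {v // Q v = 0} = (q ^ d - 1) * q ^ (d - 1) + q ^ d := by
    have h := CfsgLib.OrthOrder.card_zero_plus (F := F) d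
    rw [← Nat.card_eq_fintype_card, ← hq] at h
    rw [← h]
    refine Nat.card_congr (Equiv.subtypeEquiv φ.toEquiv fun v => ?_)
    rw [LinearEquiv.coe_toEquiv, ← coe_quadPlus, hφ]
  have hZ : Nat.card Z + 1 = Nat.card {v // Q v = 0} := by
    let eq1 : Option Z ≃ {v // Q v = 0} :=
      { toFun := fun z => z.elim ⟨0, QuadraticMap.map_zero Q⟩ fun u => ⟨e.symm (u.1 : K), u.2⟩
        invFun := fun v => if h : e v.1 = 0 then none else some ⟨Units.mk0 _ h, by simpa using v.2⟩
        left_inv := fun z => by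
          rcases z with _ | u
          · simp
          · simp
        right_inv := fun v => by
          by_cases h : e v.1 = 0
          · simp only [dif_pos h, Option.elim_none]
            exact Subtype.ext (e.injective (by rw [h, map_zero]))
          · have hv : v.1 ≠ 0 := fun h0 => h (by rw [h0, map_zero])
            simp [hv] }
    rw [← Nat.card_congr eq1, Finite.card_option]
  set G := Subgroup.zpowers x
  have hG : Nat.card G = q ^ d + 1 := by rw [Nat.card_zpowers, hxo]
  have hinv : ∀ u : Kˣ, Q (e.symm ((x * u : Kˣ) : K)) = Q (e.symm (u : K)) := fun u => by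
    rw [hQ, hQ, LinearEquiv.apply_symm_apply, LinearEquiv.apply_symm_apply, Units.val_mul, map_mul σ]
    refine congrArg (Algebra.trace F K) ?_
    linear_combination (c * (u : K) * σ (u : K)) * hxσ
  have hinv' : ∀ g₀ ∈ G, ∀ u : Kˣ, Q (e.symm ((g₀ * u : Kˣ) : K)) = Q (e.symm (u : K)) := by
    intro g₀ hg₀
    obtain ⟨j, rfl⟩ := mem_powers_iff_mem_zpowers.2 hg₀
    induction j with
    | zero => intro u; simp
    | succ j ih =>
      intro u
      simp only [] at ih ⊢
      rw [pow_succ, mul_assoc, ih (Subgroup.pow_mem _ (Subgroup.mem_zpowers x) j), hinv]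
  let P : Kˣ ⧸ G → Prop := fun a => Q (e.symm ((a.out : Kˣ) : K)) = 0
  have hdiv : q ^ d + 1 ∣ Nat.card Z := by
    have hP : ∀ u : Kˣ, Q (e.symm (u : K)) = 0 ↔ P (QuotientGroup.mk u) := by
      intro u
      obtain ⟨h, hh'⟩ := QuotientGroup.mk_out_eq_mul G u
      show _ ↔ Q (e.symm (((QuotientGroup.mk u : Kˣ ⧸ G).out : Kˣ) : K)) = 0
      rw [hh', mul_comm u, hinv' h h.2]
    let eqv : Z ≃ {a // P a} × G :=
      { toFun := fun u => (⟨QuotientGroup.mk u.1, (hP u.1).1 u.2⟩,
          ⟨(QuotientGroup.mk u.1 : Kˣ ⧸ G).out⁻¹ * u.1, QuotientGroup.leftRel_apply.1 (Quotient.exact (Quotient.out_eq _))⟩)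
        invFun := fun p => ⟨p.1.1.out * p.2.1, by
          rw [mul_comm p.1.1.out, hinv' _ p.2.2]; exact p.1.2⟩
        left_inv := fun u => Subtype.ext (mul_inv_cancel_left _ _)
        right_inv := fun p => by
          have h1 : (QuotientGroup.mk (p.1.1.out * p.2.1) : Kˣ ⧸ G) = p.1.1 := by
            rw [QuotientGroup.mk_mul_of_mem _ p.2.2, QuotientGroup.out_eq']
          refine Prod.ext (Subtype.ext h1) (Subtype.ext ?_)
          show (QuotientGroup.mk (p.1.1.out * p.2.1) : Kˣ ⧸ G).out⁻¹ * _ = _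
          rw [h1, inv_mul_cancel_left] }
    rw [Nat.card_congr eqv, Nat.card_prod, hG]
    exact dvd_mul_left _ _
  have hZ' : Nat.card Z = (q ^ d - 1) * (q ^ (d - 1) + 1) := by
    rw [hcount] at hZ
    rw [mul_add, mul_one]
    omega
  rw [hZ'] at hdiv
  have heven : 2 ∣ q := by
    obtain ⟨m, _, hcard⟩ := FiniteField.card F 2
    rw [hq, Nat.card_eq_fintype_card, hcard]
    exact dvd_pow_self 2 m.2.ne'
  have hco : Nat.Coprime (q ^ d + 1) (q ^ d - 1) := by
    rw [Nat.coprime_iff_gcd_eq_one]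
    have hg := Nat.gcd_dvd_left (q ^ d + 1) (q ^ d - 1)
    have hg' := Nat.gcd_dvd_right (q ^ d + 1) (q ^ d - 1)
    have h2' : Nat.gcd (q ^ d + 1) (q ^ d - 1) ∣ 2 := by
      have := Nat.dvd_sub hg hg'
      rwa [show q ^ d + 1 - (q ^ d - 1) = 2 by omega] at this
    rcases (Nat.dvd_prime Nat.prime_two).1 h2' with h | h
    · exact h
    · exfalso
      rw [h] at hg
      exact Nat.not_two_dvd_bit1 0 ((Nat.dvd_add_right (dvd_pow heven (by omega))).1 hg)
  have := Nat.le_of_dvd (by positivity) (hco.dvd_of_dvd_mul_left hdiv)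
  have : q ^ (d - 1) < q ^ d := Nat.pow_lt_pow_right hq2 (by omega)
  omega

end CfsgLib.SpecEight
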